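import Groth.Agent.FibDesc.K781.Defs
import Groth.Agent.Etdl.H424.PlusAdj
import Groth.Agent.Etdl.H860.Detect
import Groth.Agent.Etdl.H860.RDTri
import Groth.Agent.Etdl.H441.InjAmp
import Groth.Agent.Etdl.H423.Amp
import Mathlib.Algebra.Homology.DerivedCategory.ExactFunctor

/-!
# Full faithfulness of an exact left adjoint on `D^+`

`a ⊣ b`, `a` exact. `a` is fully faithful on `D^+` iff `L ⟶ R b (a L)` is an isomorphism for all objects `L`.
-/

set_option autoImplicit false
set_option linter.unusedSectionVars false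

universe w w' v v' v₁ v₂ u u' u₁ u₂

open CategoryTheory CategoryTheory.Limits Pretriangulated ComplexShape

noncomputable section

namespace K417.FF

open Groth.Agent.Etdl Groth.Agent.Etdl.H424 Groth.Agent.Etdl.H860 WayOut

section General

/-- Bijectivity on morphisms is invariant under isomorphisms of functors. -/
theorem bijective_map_iff {C : Type u} {D : Type u'} [Category.{v} C] [Category.{v'} D] {F G : C ⥤ D}
    (e : F ≅ G) (X Y : C) :
    Function.Bijective (fun g : X ⟶ Y => F.map g) ↔ Function.Bijective (fun g : X ⟶ Y => G.map g) := by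
  have h : (fun g : X ⟶ Y => G.map g) = (e.app X).homCongr (e.app Y) ∘ (fun g => F.map g) := by
    ext g
    simp [Iso.homCongr]
  rw [h, Equiv.comp_bijective]

/-- Bijectivity on morphisms to `L` is the unit being an isomorphism at `L`. -/
theorem bijective_map_iff_unit {C : Type u} {D : Type u'} [Category.{v} C] [Category.{v'} D] {F : C ⥤ D}
    {G : D ⥤ C} (adj : F ⊣ G) (K L : C) :
    Function.Bijective (fun g : K ⟶ L => F.map g) ↔ Function.Bijective (fun g : K ⟶ L => g ≫ adj.unit.app L) := by
  have h : (fun g : K ⟶ L => g ≫ adj.unit.app L) = adj.homEquiv K (F.obj L) ∘ (fun g => F.map g) := by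
    ext g
    exact (adj.unit.naturality g).trans (adj.homEquiv_unit K (F.obj L) (F.map g)).symm
  rw [h, Equiv.comp_bijective]

/-- An isomorphism is detected on morphisms. -/
theorem isIso_iff_bijective {C : Type u} [Category.{v} C] {X Y : C} (f : X ⟶ Y) :
    IsIso f ↔ ∀ K : C, Function.Bijective (fun g : K ⟶ X => g ≫ f) := by
  constructor
  · intro _ K
    exact ((asIso f).homToEquiv (Z := K)).bijective
  · intro h
    obtain ⟨g, hg⟩ := (h Y).2 (𝟙 Y)
    dsimp only at hg
    exact ⟨g, (h X).1 (by dsimp only; rw [Category.assoc, hg, Category.comp_id, Category.id_comp]), hg⟩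

end General

section

variable {A : Type u₁} {B : Type u₂} [Category.{v₁} A] [Category.{v₂} B] [Abelian A] [Abelian B]
  {a : A ⥤ B} {b : B ⥤ A} (adj : a ⊣ b) [a.Additive] [b.Additive] [EnoughInjectives A] [EnoughInjectives B]
  [HasDerivedCategory.{w} A] [HasDerivedCategory.{w'} B] [PreservesFiniteLimits a] [PreservesFiniteColimits a]

/-- The derived functor on `D^+` is the restriction of the functor on `D`. -/
def plusIso (a : A ⥤ B) [a.Additive] [PreservesFiniteLimits a] [PreservesFiniteColimits a] :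
    a.rightDerivedFunctorPlus ⋙ DerivedCategory.Plus.ι ≅ DerivedCategory.Plus.ι ⋙ a.mapDerivedCategory :=
  Localization.liftNatIso DerivedCategory.Plus.Qh (HomotopyCategory.Plus.quasiIso A)
    (DerivedCategory.Plus.Qh ⋙ a.rightDerivedFunctorPlus ⋙ DerivedCategory.Plus.ι)
    (DerivedCategory.Plus.Qh ⋙ DerivedCategory.Plus.ι ⋙ a.mapDerivedCategory) _ _
    ((Functor.isoWhiskerRight (PlusAdj.unitIso a).symm DerivedCategory.Plus.ι :) ≪≫
      (Functor.isoWhiskerLeft (HomotopyCategory.Plus.ι A) a.mapDerivedCategoryFactorsh.symm :))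

/-- Full faithfulness on `D^+` in terms of the derived functor. -/
theorem bijective_iff (K L : DerivedCategory.Plus A) :
    Function.Bijective (fun g : K.obj ⟶ L.obj => a.mapDerivedCategory.map g) ↔
      Function.Bijective (fun g : K ⟶ L => a.rightDerivedFunctorPlus.map g) := by
  have h1 := bijective_map_iff (plusIso a) K L
  have h2 : (fun g : K ⟶ L => (DerivedCategory.Plus.ι ⋙ a.mapDerivedCategory).map g) =
      (fun g : K.obj ⟶ L.obj => a.mapDerivedCategory.map g) ∘
        (fun g : K ⟶ L => (DerivedCategory.Plus.ι (C := A)).map g) := rfl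
  have h3 : (fun g : K ⟶ L => (a.rightDerivedFunctorPlus ⋙ DerivedCategory.Plus.ι).map g) =
      (fun g : a.rightDerivedFunctorPlus.obj K ⟶ a.rightDerivedFunctorPlus.obj L =>
        (DerivedCategory.Plus.ι (C := B)).map g) ∘ (fun g : K ⟶ L => a.rightDerivedFunctorPlus.map g) := rfl
  have h4 : Function.Bijective (fun g : K ⟶ L => (DerivedCategory.Plus.ι (C := A)).map g) :=
    DerivedCategory.TStructure.t.plus.fullyFaithfulι.map_bijective _ _
  have h5 : Function.Bijective (fun g : a.rightDerivedFunctorPlus.obj K ⟶ a.rightDerivedFunctorPlus.obj L =>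
      (DerivedCategory.Plus.ι (C := B)).map g) :=
    DerivedCategory.TStructure.t.plus.fullyFaithfulι.map_bijective _ _
  rw [h2, h3, Function.Bijective.of_comp_iff _ h4, Function.Bijective.of_comp_iff' h5] at h1
  exact h1.symm

/-- Full faithfulness at `L` is that the unit is an isomorphism at `L`. -/
theorem forall_bijective_iff (L : DerivedCategory.Plus A) :
    (∀ K : DerivedCategory.Plus A, Function.Bijective (fun g : K ⟶ L => a.rightDerivedFunctorPlus.map g)) ↔
      IsIso ((PlusAdj.dadj adj).unit.app L) := by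
  rw [isIso_iff_bijective]
  exact forall_congr' fun K => bijective_map_iff_unit _ K L

/-- Changing the source. -/
theorem bijective_of_src {C : Type u} {D : Type u'} [Category.{v} C] [Category.{v'} D] (F : C ⥤ D)
    {K K' : C} (e : K ≅ K') (L : C) (h : Function.Bijective (fun g : K ⟶ L => F.map g)) :
    Function.Bijective (fun g : K' ⟶ L => F.map g) := by
  constructor
  · intro g g' hg
    dsimp only at hg
    have h1 : F.map (e.hom ≫ g) = F.map (e.hom ≫ g') := by rw [F.map_comp, F.map_comp, hg]
    have h2 := h.1 h1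
    exact (cancel_epi e.hom).1 h2
  · intro w
    obtain ⟨g, hg⟩ := h.2 (F.map e.hom ≫ w)
    dsimp only at hg
    refine ⟨e.inv ≫ g, ?_⟩
    dsimp only
    rw [F.map_comp, hg, ← Category.assoc, ← F.map_comp, e.inv_hom_id, F.map_id, Category.id_comp]

/-- Full faithfulness at `L` implies full faithfulness at the shifts of `L`. -/
theorem bijective_shift {C : Type u} {D : Type u'} [Category.{v} C] [Category.{v'} D] (F : C ⥤ D)
    [HasShift C ℤ] [HasShift D ℤ] [F.CommShift ℤ] (k : ℤ) (L : C)
    (h : ∀ K : C, Function.Bijective (fun g : K ⟶ L => F.map g)) (K : C) :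
    Function.Bijective (fun g : K ⟶ L⟦k⟧ => F.map g) := by
  refine bijective_of_src F ((shiftEquiv C k).counitIso.app K) _ ?_
  let K' : C := (shiftFunctor C (-k)).obj K
  change Function.Bijective (fun g : K'⟦k⟧ ⟶ L⟦k⟧ => F.map g)
  have h1 := (bijective_map_iff (F.commShiftIso k) K' L).2 (by
    have h2 : (fun g : K' ⟶ L => (F ⋙ shiftFunctor D k).map g) =
      (fun g : F.obj K' ⟶ F.obj L => (shiftFunctor D k).map g) ∘ (fun g : K' ⟶ L => F.map g) := rfl
    rw [h2]
    exact (Functor.FullyFaithful.ofFullyFaithful (shiftFunctor D k)).map_bijective _ _ |>.comp (h K'))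
  have h2 : (fun g : K' ⟶ L => (shiftFunctor C k ⋙ F).map g) =
    (fun g : K'⟦k⟧ ⟶ L⟦k⟧ => F.map g) ∘ (fun g : K' ⟶ L => (shiftFunctor C k).map g) := rfl
  rw [h2] at h1
  exact (Function.Bijective.of_comp_iff _
    ((Functor.FullyFaithful.ofFullyFaithful (shiftFunctor C k)).map_bijective _ _)).1 h1

/-- The unit is an isomorphism if it is on single objects. -/
theorem isIso_unit_app_of_single
    (h : ∀ M : A, IsIso ((PlusAdj.dadj adj).unit.app ((DerivedCategory.Plus.singleFunctor A 0).obj M)))
    (L : DerivedCategory.Plus A) : IsIso ((PlusAdj.dadj adj).unit.app L) := by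
  have hsg : ∀ (k : ℤ) (M : A), IsIso ((PlusAdj.dadj adj).unit.app (sg k M)) := fun k M =>
    (forall_bijective_iff adj _).1 (bijective_shift _ k _ ((forall_bijective_iff adj _).2 (h M)))
  have hRG : b.rightDerivedFunctorPlus.IsTriangulated := RDTri.isTriangulated b
  rw [DerivedCategory.Plus.isIso_iff]
  intro p
  have h1 : (𝟭 _ ⋙ DerivedCategory.Plus.homologyFunctor A p).IsHomological := inferInstance
  have h2 : ((a.rightDerivedFunctorPlus ⋙ b.rightDerivedFunctorPlus) ⋙
    DerivedCategory.Plus.homologyFunctor A p).IsHomological := inferInstance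
  refine WayOut.isIso_app (𝓗 := 𝟭 _ ⋙ DerivedCategory.Plus.homologyFunctor A p)
    (𝓗' := (a.rightDerivedFunctorPlus ⋙ b.rightDerivedFunctorPlus) ⋙ DerivedCategory.Plus.homologyFunctor A p)
    (Functor.whiskerRight (PlusAdj.dadj adj).unit (DerivedCategory.Plus.homologyFunctor A p)) (p + 1) ?_ ?_ L
  · intro K hK
    have h3 : (a.rightDerivedFunctorPlus.obj K).IsGE (p + 1) :=
      H441.InjAmp.isGE_rightDerivedFunctorPlus_obj a K (p + 1)
    have h4 : (b.rightDerivedFunctorPlus.obj (a.rightDerivedFunctorPlus.obj K)).IsGE (p + 1) :=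
      H441.InjAmp.isGE_rightDerivedFunctorPlus_obj b _ (p + 1)
    have h5 := DerivedCategory.Plus.isZero_homology_of_isGE K (p + 1) p (by lia)
    have h6 := DerivedCategory.Plus.isZero_homology_of_isGE
      (b.rightDerivedFunctorPlus.obj (a.rightDerivedFunctorPlus.obj K)) (p + 1) p (by lia)
    exact ⟨0, h5.eq_of_src _ _, h6.eq_of_src _ _⟩
  · intro J hJ' k
    have := hsg k J
    exact inferInstanceAs (IsIso ((DerivedCategory.Plus.homologyFunctor A p).map
      ((PlusAdj.dadj adj).unit.app (sg k J))))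

/-- The complex `L[0]` as a bounded below complex. -/
abbrev sngl (L : A) : CochainComplex.Plus A :=
  ⟨(HomologicalComplex.single A (up ℤ) 0).obj L, ⟨0, inferInstance⟩⟩

/-- The object `L[0]` of `D^+` is the image of the complex `L[0]`. -/
def snglIso (L : A) : (DerivedCategory.Plus.singleFunctor A 0).obj L ≅
    DerivedCategory.Plus.Qh.obj ((HomotopyCategory.Plus.quotient A).obj (sngl L)) :=
  DerivedCategory.Plus.ι.preimageIso
    (((DerivedCategory.singleFunctorIsoCompQ A 0).app L ≪≫ ((DerivedCategory.quotientCompQhIso A).app _).symm :))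

/-- Quasi-isomorphisms are detected in `D^+`. -/
theorem quasiIso_iff_isIso {K L : CochainComplex.Plus A} (f : K ⟶ L) :
    QuasiIso f.hom ↔ IsIso (DerivedCategory.Plus.Qh.map ((HomotopyCategory.Plus.quotient A).map f)) := by
  rw [← DerivedCategory.isIso_Q_map_iff_quasiIso]
  have h1 : IsIso (DerivedCategory.Plus.Qh.map ((HomotopyCategory.Plus.quotient A).map f)) ↔
      IsIso (DerivedCategory.Plus.ι.map (DerivedCategory.Plus.Qh.map ((HomotopyCategory.Plus.quotient A).map f))) :=
    ⟨fun _ => inferInstance, fun _ => isIso_of_fully_faithful DerivedCategory.Plus.ι _⟩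
  rw [h1]
  exact (NatIso.isIso_map_iff (DerivedCategory.quotientCompQhIso A) f.hom).symm

/-- The map `a (L[0]) ⟶ I` of a map `(a L)[0] ⟶ I`. -/
abbrev φc (a : A ⥤ B) [a.Additive] (L : A) {I : CochainComplex B ℤ}
    (φ : (HomologicalComplex.single B (up ℤ) 0).obj (a.obj L) ⟶ I) :
    (a.mapHomologicalComplex (up ℤ)).obj ((HomologicalComplex.single A (up ℤ) 0).obj L) ⟶ I :=
  (HomologicalComplex.singleMapHomologicalComplex a (up ℤ) 0).hom.app L ≫ φ

theorem unit_φc (L : A) {I : CochainComplex B ℤ}
    (φ : (HomologicalComplex.single B (up ℤ) 0).obj (a.obj L) ⟶ I) :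
    (PlusAdj.adjCx adj (up ℤ)).unit.app ((HomologicalComplex.single A (up ℤ) 0).obj L) ≫
      (b.mapHomologicalComplex (up ℤ)).map (φc a L φ) = K781.FF.adjSingle adj L φ := by
  apply HomologicalComplex.from_single_hom_ext
  have h1 : (K781.FF.adjSingle adj L φ).f 0 = (HomologicalComplex.singleObjXSelf (up ℤ) 0 L).hom ≫
      adj.homEquiv _ _ ((HomologicalComplex.singleObjXSelf (up ℤ) 0 (a.obj L)).inv ≫ φ.f 0) :=
    HomologicalComplex.mkHomFromSingle_f _ _
  have h2 : (HomologicalComplex.singleObjXSelf (up ℤ) 0 L).hom ≫ adj.unit.app L =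
      adj.unit.app (((HomologicalComplex.single A (up ℤ) 0).obj L).X 0) ≫
        b.map (a.map (HomologicalComplex.singleObjXSelf (up ℤ) 0 L).hom) :=
    adj.unit.naturality (HomologicalComplex.singleObjXSelf (up ℤ) 0 L).hom
  rw [h1, adj.homEquiv_unit, ← Category.assoc, h2, Category.assoc, HomologicalComplex.comp_f,
    PlusAdj.adjCx_unit_app_f, Functor.mapHomologicalComplex_map_f, HomologicalComplex.comp_f,
    HomologicalComplex.singleMapHomologicalComplex_hom_app_self]
  refine congrArg (fun t => adj.unit.app (((HomologicalComplex.single A (up ℤ) 0).obj L).X 0) ≫ t) ?_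
  exact (congrArg (fun t => b.map t) (Category.assoc _ _ _)).trans (b.map_comp _ _)

/-- The unit at an object and maps to resolutions of its image. -/
theorem isIso_unit_iff_aux (K : HomotopyCategory.Plus A) (I : HomotopyCategory.Plus B)
    (φ : a.mapHomotopyCategoryPlus.obj K ⟶ I) (h1 : IsIso (DerivedCategory.Plus.Qh.map φ))
    (h2 : IsIso (b.rightDerivedFunctorPlusUnit.app I)) :
    IsIso ((PlusAdj.dadj adj).unit.app (DerivedCategory.Plus.Qh.obj K)) ↔
      IsIso (DerivedCategory.Plus.Qh.map ((PlusAdj.adjHo adj).unit.app K ≫ b.mapHomotopyCategoryPlus.map φ)) := by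
  have h0 : IsIso (a.rightDerivedFunctorPlusUnit.app K) := by
    have := PlusAdj.isIso_unit (A := A) (B := B) a
    exact NatIso.isIso_app_of_isIso _ K
  have h4 : IsIso (b.rightDerivedFunctorPlus.map (a.rightDerivedFunctorPlusUnit.app K)) :=
    Functor.map_isIso _ _
  have h5 := b.rightDerivedFunctorPlusUnit.naturality φ
  have h6 : IsIso ((DerivedCategory.Plus.Qh ⋙ b.rightDerivedFunctorPlus).map φ) :=
    Functor.map_isIso b.rightDerivedFunctorPlus (DerivedCategory.Plus.Qh.map φ)
  rw [PlusAdj.dadj_unit adj K, ← Category.assoc, isIso_comp_right_iff, Functor.map_comp]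
  rw [← isIso_comp_right_iff _ ((DerivedCategory.Plus.Qh ⋙ b.rightDerivedFunctorPlus).map φ), Category.assoc, ← h5,
    ← Category.assoc, isIso_comp_right_iff]
  rfl

/-- The unit at a single object and resolutions. -/
theorem isIso_unit_single_iff (L : A) {I : CochainComplex B ℤ} (hI : ∀ n, Injective (I.X n))
    (hI0 : ∀ n < 0, IsZero (I.X n)) (φ : (HomologicalComplex.single B (up ℤ) 0).obj (a.obj L) ⟶ I)
    (hφ : QuasiIso φ) :
    IsIso ((PlusAdj.dadj adj).unit.app ((DerivedCategory.Plus.singleFunctor A 0).obj L)) ↔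
      QuasiIso (K781.FF.adjSingle adj L φ) := by
  have hI1 : I.IsStrictlyGE 0 := by
    rw [CochainComplex.isStrictlyGE_iff]
    exact fun n hn => hI0 n hn
  let I₀ : CochainComplex.Plus B := ⟨I, ⟨0, hI1⟩⟩
  let φ₀ : a.mapCochainComplexPlus.obj (sngl L) ⟶ I₀ := ObjectProperty.homMk (φc a L φ)
  let K := (HomotopyCategory.Plus.quotient A).obj (sngl L)
  -- `RG` of `φ₀` is an isomorphism
  have h1 : IsIso (DerivedCategory.Plus.Qh.map ((HomotopyCategory.Plus.quotient B).map φ₀)) :=
    (quasiIso_iff_isIso φ₀).1 (inferInstanceAs (QuasiIso (φc a L φ)))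
  have h2 : IsIso (b.rightDerivedFunctorPlusUnit.app ((HomotopyCategory.Plus.quotient B).obj I₀)) := by
    have : PreservesFiniteLimits b := by
      have : PreservesLimitsOfSize.{0, 0} b := adj.rightAdjoint_preservesLimits
      exact PreservesLimitsOfSize.preservesFiniteLimits _
    refine Groth.Agent.Cohder.RDPlusAcyc.isIso_unit_app b I₀ fun m i hi => ?_
    obtain ⟨j, rfl⟩ : ∃ j, i = j + 1 := ⟨i - 1, by lia⟩
    have := hI m
    exact Functor.isZero_rightDerived_obj_injective_succ b j (I.X m)
  let ψ : sngl L ⟶ b.mapCochainComplexPlus.obj I₀ := ObjectProperty.homMk (K781.FF.adjSingle adj L φ)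
  have h6 : (PlusAdj.adjHo adj).unit.app K ≫ b.mapHomotopyCategoryPlus.map
      ((HomotopyCategory.Plus.quotient B).map φ₀) = (HomotopyCategory.Plus.quotient A).map ψ := by
    ext
    exact ((HomotopyCategory.quotient A (.up ℤ)).map_comp _ _).symm.trans
      (congrArg (HomotopyCategory.quotient A (.up ℤ)).map (unit_φc adj L φ))
  rw [NatTrans.isIso_app_iff_of_iso _ (snglIso L)]
  change IsIso ((PlusAdj.dadj adj).unit.app (DerivedCategory.Plus.Qh.obj K)) ↔ QuasiIso ψ.hom
  rw [quasiIso_iff_isIso ψ, ← h6]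
  exact isIso_unit_iff_aux adj K _ _ h1 h2

/-- The unit is an isomorphism at `L[0]` iff `L ⟶ R b (a L)` is an isomorphism in the elementary sense. -/
theorem isIso_unit_single_iff_unitOK (L : A) :
    IsIso ((PlusAdj.dadj adj).unit.app ((DerivedCategory.Plus.singleFunctor A 0).obj L)) ↔
      K781.FF.UnitOK adj L := by
  constructor
  · intro h I hI hI0 φ hφ
    exact (isIso_unit_single_iff adj L hI hI0 φ hφ).1 h
  · intro h
    obtain ⟨I, i, hi, hI, hI0⟩ := CochainComplex.Plus.modelCategoryQuillen.exists_quasiIso_injective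
      ((HomologicalComplex.single B (up ℤ) 0).obj (a.obj L)) 0
    have hI0' : ∀ n < 0, IsZero (I.X n) := fun n hn => I.isZero_of_isStrictlyGE 0 n hn
    exact (isIso_unit_single_iff adj L hI hI0' i hi).2 (h I hI hI0' i hi)

/-- **Full faithfulness of an exact left adjoint on `D^+`.** -/
theorem ff_iff : (∀ K L : DerivedCategory.Plus A,
    Function.Bijective fun g : K.obj ⟶ L.obj => a.mapDerivedCategory.map g) ↔
      ∀ L, K781.FF.UnitOK adj L := by
  constructor
  · intro h L
    rw [← isIso_unit_single_iff_unitOK, ← forall_bijective_iff]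
    exact fun K => (bijective_iff K _).1 (h K _)
  · intro h K L
    rw [bijective_iff]
    exact (forall_bijective_iff adj L).2 (isIso_unit_app_of_single adj
      (fun M => (isIso_unit_single_iff_unitOK adj M).2 (h M)) L) K

end

end K417.FF

end
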